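import Cfsg.Agent.EqLemmas
import Cfsg.Agent.S3889

/-!
# Nilpotent minimal covers and abelian Sylow subgroups

In a group with trivial centre and a nilpotent minimal cover, if a Sylow `p`-subgroup is abelian then each
nontrivial `p`-element lies in exactly one member of the cover (`eq_of_mem`); hence a Sylow subgroup which is
not elementary abelian lies in a member, equal to its centralizer, and its normalizer is maximal.
-/

set_option autoImplicit false
open Cfsg

namespace Cfsg.Agent.NilCover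

variable {G : Type*} [Group G]

/-- Minimality of a cover: two members inside one proper subgroup coincide. -/
theorem eq_of_le_proper (𝓐 : Finset (Subgroup G))
    (hcov : (∀ A ∈ 𝓐, A ≠ ⊤) ∧ (∀ g : G, ∃ A ∈ 𝓐, g ∈ A))
    (hmin : ∀ 𝓑 : Finset (Subgroup G), (∀ A ∈ 𝓑, A ≠ ⊤) ∧ (∀ g : G, ∃ A ∈ 𝓑, g ∈ A) → 𝓐.card ≤ 𝓑.card)
    {M : Subgroup G} (hM : M ≠ ⊤) {A B : Subgroup G} (hA : A ∈ 𝓐) (hB : B ∈ 𝓐) (hAM : A ≤ M)
    (hBM : B ≤ M) : A = B := by
  classical
  by_contra hne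
  have h := hmin (insert M ((𝓐.erase A).erase B)) ⟨?_, ?_⟩
  · have h1 := Finset.card_insert_le M ((𝓐.erase A).erase B)
    have hBA : B ∈ 𝓐.erase A := Finset.mem_erase.2 ⟨Ne.symm hne, hB⟩
    have h2 := Finset.card_erase_add_one hBA
    have h3 := Finset.card_erase_add_one hA
    omega
  · intro C hC
    rcases Finset.mem_insert.1 hC with rfl | hC
    · exact hM
    · exact hcov.1 C (Finset.mem_of_mem_erase (Finset.mem_of_mem_erase hC))
  · intro g
    obtain ⟨C, hC, hg⟩ := hcov.2 g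
    by_cases hCA : C = A
    · exact ⟨M, Finset.mem_insert_self _ _, hAM (hCA ▸ hg)⟩
    by_cases hCB : C = B
    · exact ⟨M, Finset.mem_insert_self _ _, hBM (hCB ▸ hg)⟩
    exact ⟨C, Finset.mem_insert_of_mem (Finset.mem_erase.2 ⟨hCB, Finset.mem_erase.2 ⟨hCA, hC⟩⟩), hg⟩

variable [Finite G] {p : ℕ} [Fact p.Prime]

/-- Elements of a `p`-subgroup commute when some Sylow `p`-subgroup is abelian. -/
theorem commute_of_pSubgroup {P : Sylow p G} (hab : IsMulCommutative ↥(P : Subgroup G))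
    {R : Subgroup G} (hR : IsPGroup p R) {a b : G} (ha : a ∈ R) (hb : b ∈ R) : Commute a b := by
  obtain ⟨Q, hQ⟩ := hR.exists_le_sylow
  obtain ⟨g, hg⟩ := MulAction.exists_smul_eq G P Q
  have hmem : ∀ x ∈ R, g⁻¹ * x * g ∈ (P : Subgroup G) := by
    intro x hx
    have h1 : x ∈ ((g • P : Sylow p G) : Subgroup G) := hg.symm ▸ hQ hx
    rw [Sylow.coe_subgroup_smul, Subgroup.mem_pointwise_smul_iff_inv_smul_mem] at h1
    simpa [mul_assoc] using h1
  have h := congrArg Subtype.val (hab.is_comm.comm ⟨_, hmem a ha⟩ ⟨_, hmem b hb⟩)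
  have h' : g⁻¹ * (a * b) * g = g⁻¹ * (b * a) * g := by simpa [mul_assoc] using h
  exact mul_left_cancel (mul_right_cancel h')

/-- A nilpotent subgroup centralises each of its `p`-elements when a Sylow `p`-subgroup is abelian. -/
theorem commute_of_mem_nilpotent {P : Sylow p G} (hab : IsMulCommutative ↥(P : Subgroup G))
    {A : Subgroup G} (hA : Group.IsNilpotent ↥A) {u a : G} (hu : u ∈ A) (ha : a ∈ A)
    {k : ℕ} (hk : u ^ p ^ k = 1) : Commute u a := by
  obtain ⟨e⟩ := (Group.isNilpotent_of_finite_tfae (G := ↥A)).out 0 4 rfl rfl |>.mp hA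
  have hk' : (⟨u, hu⟩ : A) ^ p ^ k = 1 := Subtype.ext (by simpa using hk)
  have key : Commute (e.symm ⟨u, hu⟩) (e.symm ⟨a, ha⟩) := by
    funext q R
    haveI hq : Fact (q : ℕ).Prime := ⟨Nat.prime_of_mem_primeFactors q.2⟩
    show (e.symm ⟨u, hu⟩) q R * (e.symm ⟨a, ha⟩) q R = (e.symm ⟨a, ha⟩) q R * (e.symm ⟨u, hu⟩) q R
    have h1 : ((e.symm ⟨u, hu⟩) q R) ^ p ^ k = 1 := by
      show (e.symm ⟨u, hu⟩ ^ p ^ k) q R = 1
      rw [← map_pow, hk', map_one]
      rfl
    by_cases hqp : (q : ℕ) = p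
    · have hpg : IsPGroup p ((R : Subgroup A).map A.subtype) := by
        have h2 : IsPGroup (q : ℕ) ((R : Subgroup A).map A.subtype) := R.isPGroup'.map _
        intro x
        obtain ⟨j, hj⟩ := h2 x
        exact ⟨j, (congrArg (fun t => x ^ t ^ j) hqp).symm.trans hj⟩
      have hc := commute_of_pSubgroup hab hpg
        (Subgroup.mem_map_of_mem A.subtype ((e.symm ⟨u, hu⟩) q R).2)
        (Subgroup.mem_map_of_mem A.subtype ((e.symm ⟨a, ha⟩) q R).2)
      exact Subtype.ext (Subtype.ext hc)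
    · obtain ⟨j, hj⟩ := IsPGroup.iff_orderOf.1 R.isPGroup' ((e.symm ⟨u, hu⟩) q R)
      have h2 : orderOf ((e.symm ⟨u, hu⟩) q R) = 1 := by
        apply Nat.dvd_one.1
        have hcop : Nat.Coprime ((q : ℕ) ^ j) (p ^ k) :=
          Nat.Coprime.pow _ _ ((Nat.coprime_primes hq.out Fact.out).2 hqp)
        rw [← hcop.gcd_eq_one]
        exact Nat.dvd_gcd (hj ▸ dvd_rfl) (orderOf_dvd_of_pow_eq_one h1)
      rw [orderOf_eq_one_iff] at h2
      simp [h2]
  exact congrArg Subtype.val (key.of_map e.symm.injective).eq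

omit [Fact p.Prime] in
/-- A `p`-element normalising a Sylow `p`-subgroup lies in it. -/
theorem mem_sylow_of_normalizer (P : Sylow p G) {x : G}
    (hx : x ∈ Subgroup.normalizer ((P : Subgroup G) : Set G)) {k : ℕ} (hk : x ^ p ^ k = 1) :
    x ∈ (P : Subgroup G) := by
  have hxp : IsPGroup p (Subgroup.zpowers x) := by
    rintro ⟨y, hy⟩
    obtain ⟨i, rfl⟩ := Subgroup.mem_zpowers_iff.1 hy
    refine ⟨k, Subtype.ext ?_⟩
    show (x ^ i) ^ p ^ k = 1
    rw [← zpow_natCast, ← zpow_mul, mul_comm, zpow_mul, zpow_natCast, hk, one_zpow]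
  have hJ := IsPGroup.to_sup_of_normal_right' hxp P.isPGroup' (Subgroup.zpowers_le.2 hx)
  have heq := P.is_maximal' hJ le_sup_right
  exact heq ▸ (le_sup_left : Subgroup.zpowers x ≤ _) (Subgroup.mem_zpowers x)

variable (hZ : Subgroup.center G = ⊥) (𝓐 : Finset (Subgroup G))
  (h𝓐 : ((∀ A ∈ 𝓐, A ≠ ⊤) ∧ (∀ g : G, ∃ A ∈ 𝓐, g ∈ A)) ∧
    (∀ 𝓑 : Finset (Subgroup G), (∀ A ∈ 𝓑, A ≠ ⊤) ∧ (∀ g : G, ∃ A ∈ 𝓑, g ∈ A) → 𝓐.card ≤ 𝓑.card) ∧
    (∀ A ∈ 𝓐, Group.IsNilpotent ↥A))

include hZ h𝓐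

/-- Each nontrivial `p`-element lies in exactly one member of the cover. -/
theorem eq_of_mem {P : Sylow p G} (hab : IsMulCommutative ↥(P : Subgroup G)) {A B : Subgroup G}
    (hA : A ∈ 𝓐) (hB : B ∈ 𝓐) {u : G} (hu1 : u ≠ 1) {k : ℕ} (hk : u ^ p ^ k = 1)
    (huA : u ∈ A) (huB : u ∈ B) : A = B := by
  have hC : Subgroup.centralizer ({u} : Set G) ≠ ⊤ := by
    intro h
    apply hu1
    have hc : u ∈ Subgroup.center G := by
      rw [Subgroup.mem_center_iff]
      intro g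
      have h' : g ∈ Subgroup.centralizer ({u} : Set G) := h.symm ▸ Subgroup.mem_top g
      have := Subgroup.mem_centralizer_iff.1 h' u (Set.mem_singleton u)
      exact this.symm
    rwa [hZ, Subgroup.mem_bot] at hc
  refine eq_of_le_proper 𝓐 h𝓐.1 h𝓐.2.1 hC hA hB ?_ ?_
  · intro a ha
    rw [Subgroup.mem_centralizer_iff]
    rintro _ rfl
    exact (commute_of_mem_nilpotent hab (h𝓐.2.2 A hA) huA ha hk).eq
  · intro a ha
    rw [Subgroup.mem_centralizer_iff]
    rintro _ rfl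
    exact (commute_of_mem_nilpotent hab (h𝓐.2.2 B hB) huB ha hk).eq

omit hZ h𝓐 in
theorem pow_card_eq_one (P : Sylow p G) {u : G} (hu : u ∈ (P : Subgroup G)) :
    ∃ k : ℕ, u ^ p ^ k = 1 := by
  obtain ⟨k, hk⟩ := P.isPGroup' ⟨u, hu⟩
  exact ⟨k, by simpa using congrArg Subtype.val hk⟩

/-- An abelian Sylow subgroup that is not elementary abelian of non-prime order lies in a member. -/
theorem exists_le_member {P : Sylow p G} (hab : IsMulCommutative ↥(P : Subgroup G))
    (hnel : ¬ (Cfsg.IsElementaryAbelian p (P : Subgroup G) ∧ p < Nat.card ↥(P : Subgroup G))) :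
    ∃ A ∈ 𝓐, (P : Subgroup G) ≤ A := by
  have hp : p.Prime := Fact.out
  by_contra hcon
  push Not at hcon
  letI cg : CommGroup ↥(P : Subgroup G) :=
    { (inferInstance : Group ↥(P : Subgroup G)) with mul_comm := hab.is_comm.comm }
  have hexp := Cfsg.Agent.S3889.result
    {B : Subgroup ↥(P : Subgroup G) | ∃ A ∈ 𝓐, B = A.subgroupOf (P : Subgroup G)}
    (by
      rintro B ⟨A, hA, rfl⟩ h
      exact hcon A hA (Subgroup.subgroupOf_eq_top.1 h))
    (fun g => by
      obtain ⟨A, hA, hg⟩ := h𝓐.1.2 g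
      exact ⟨_, ⟨A, hA, rfl⟩, hg⟩)
    (by
      rintro B ⟨A, hA, rfl⟩ C ⟨A', hA', rfl⟩ hne
      rw [Subgroup.eq_bot_iff_forall]
      rintro u ⟨hu, hu'⟩
      by_contra hu1
      obtain ⟨k, hk⟩ := pow_card_eq_one P u.2
      exact hne (congrArg (fun D => D.subgroupOf (P : Subgroup G))
        (eq_of_mem hZ 𝓐 h𝓐 hab hA hA' (fun h => hu1 (Subtype.ext h)) hk hu hu')))
  have hPne : (P : Subgroup G) ≠ ⊥ := by
    intro h
    obtain ⟨A, hA, -⟩ := h𝓐.1.2 1
    exact hcon A hA (h ▸ bot_le)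
  have hexpP : Monoid.exponent ↥(P : Subgroup G) = p := by
    obtain ⟨n, hn⟩ := IsPGroup.iff_card.1 P.isPGroup'
    have h1 : Monoid.exponent ↥(P : Subgroup G) ∣ p ^ n := hn ▸ Group.exponent_dvd_nat_card
    exact (Nat.prime_dvd_prime_iff_eq hexp hp).1 (hexp.dvd_of_dvd_pow h1)
  have hel : Cfsg.IsElementaryAbelian p (P : Subgroup G) := by
    refine ⟨hab, fun a ha => ?_⟩
    have h2 : (⟨a, ha⟩ : ↥(P : Subgroup G)) ^ p = 1 :=
      Monoid.exponent_dvd_iff_forall_pow_eq_one.1 (dvd_of_eq hexpP) _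
    simpa using congrArg Subtype.val h2
  have hle : Nat.card ↥(P : Subgroup G) ≤ p := not_lt.1 fun h => hnel ⟨hel, h⟩
  obtain ⟨n, hn⟩ := IsPGroup.iff_card.1 P.isPGroup'
  have hn1 : n = 1 := by
    rcases n with _ | _ | n
    · exact absurd (Subgroup.card_eq_one.1 (by simpa using hn)) hPne
    · rfl
    · exfalso
      have h3 : p ^ 2 ≤ p ^ (n + 2) := Nat.pow_le_pow_right hp.pos (by omega)
      rw [hn] at hle
      nlinarith [hp.two_le]
  rw [hn1, pow_one] at hn
  haveI : IsCyclic ↥(P : Subgroup G) := isCyclic_of_prime_card hn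
  obtain ⟨g, hg⟩ := IsCyclic.exists_generator (α := ↥(P : Subgroup G))
  obtain ⟨A, hA, hgA⟩ := h𝓐.1.2 g
  refine hcon A hA ?_
  intro x hx
  obtain ⟨i, hi⟩ := Subgroup.mem_zpowers_iff.1 (hg ⟨x, hx⟩)
  have h2 := congrArg Subtype.val hi
  simp only [Subgroup.coe_zpow] at h2
  exact h2 ▸ A.zpow_mem hgA i

/-- A member containing an abelian, nontrivial Sylow subgroup is its centralizer. -/
theorem centralizer_eq_of_le {P : Sylow p G} (hab : IsMulCommutative ↥(P : Subgroup G))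
    (hPne : (P : Subgroup G) ≠ ⊥) {A : Subgroup G} (hA : A ∈ 𝓐) (hPA : (P : Subgroup G) ≤ A) :
    Subgroup.centralizer ((P : Subgroup G) : Set G) = A := by
  have hp : p.Prime := Fact.out
  refine le_antisymm ?_ ?_
  · intro y hy
    obtain ⟨⟨z, hz⟩, hz1'⟩ := Subgroup.ne_bot_iff_exists_ne_one.1 hPne
    have hz1 : z ≠ 1 := fun h => hz1' (Subtype.ext h)
    obtain ⟨kz, hkz⟩ := pow_card_eq_one P hz
    obtain ⟨k, m, hm, hkm⟩ := Nat.exists_eq_pow_mul_and_not_dvd (orderOf_pos y).ne' p hp.ne_one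
    have hcopm : ∀ j : ℕ, Nat.Coprime (p ^ j) m := fun j =>
      Nat.Coprime.pow_left _ (hp.coprime_iff_not_dvd.2 hm)
    have h1 : y ^ m ∈ A := by
      refine hPA (mem_sylow_of_normalizer P (Subgroup.centralizer_le_normalizer _
        ((Subgroup.centralizer _).pow_mem hy m)) (k := k) ?_)
      rw [← pow_mul, mul_comm, ← hkm, pow_orderOf_eq_one]
    have h2 : y ^ p ^ k ∈ A := by
      obtain ⟨B, hB, hw⟩ := h𝓐.1.2 (z * y ^ p ^ k)
      have hcom : Commute z (y ^ p ^ k) := Commute.pow_right (Subgroup.mem_centralizer_iff.1 hy z hz) _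
      have hwm : (z * y ^ p ^ k) ^ m = z ^ m := by
        rw [hcom.mul_pow, ← pow_mul, ← hkm, pow_orderOf_eq_one, mul_one]
      have hzm1 : z ^ m ≠ 1 := by
        intro h
        apply hz1
        have := pow_gcd_eq_one.2 ⟨hkz, h⟩
        rwa [(hcopm kz).gcd_eq_one, pow_one] at this
      have hBA : B = A := eq_of_mem hZ 𝓐 h𝓐 hab hB hA hzm1 (k := kz)
        (by rw [← pow_mul, mul_comm, pow_mul, hkz, one_pow]) (hwm ▸ B.pow_mem hw m)
        (A.pow_mem (hPA hz) m)
      subst hBA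
      simpa using B.mul_mem (B.inv_mem (hPA hz)) hw
    have hb := Nat.gcd_eq_gcd_ab (p ^ k) m
    rw [(hcopm k).gcd_eq_one] at hb
    have hy2 : y = (y ^ p ^ k) ^ (Nat.gcdA (p ^ k) m) * (y ^ m) ^ (Nat.gcdB (p ^ k) m) := by
      rw [← zpow_natCast, ← zpow_natCast, ← zpow_mul, ← zpow_mul, ← zpow_add, ← hb]
      simp
    rw [hy2]
    exact A.mul_mem (A.zpow_mem h2 _) (A.zpow_mem h1 _)
  · intro a ha
    rw [Subgroup.mem_centralizer_iff]
    intro u hu
    obtain ⟨k, hk⟩ := pow_card_eq_one P hu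
    exact (commute_of_mem_nilpotent hab (h𝓐.2.2 A hA) (hPA hu) ha hk).eq

omit hZ h𝓐 in
theorem mem_smul_iff' (P : Sylow p G) (g x : G) :
    x ∈ ((g • P : Sylow p G) : Subgroup G) ↔ g⁻¹ * x * g ∈ (P : Subgroup G) := by
  rw [Sylow.coe_subgroup_smul, Subgroup.mem_pointwise_smul_iff_inv_smul_mem]
  simp [mul_assoc]

/-- Conjugates of a non-elementary abelian Sylow subgroup lie in their centralizers, members of the cover. -/
theorem conj_member {P : Sylow p G} (hab : IsMulCommutative ↥(P : Subgroup G))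
    (hnel : ¬ (Cfsg.IsElementaryAbelian p (P : Subgroup G) ∧ p < Nat.card ↥(P : Subgroup G)))
    (hPne : (P : Subgroup G) ≠ ⊥) (g : G) :
    Subgroup.centralizer (((g • P : Sylow p G) : Subgroup G) : Set G) ∈ 𝓐 ∧
      ((g • P : Sylow p G) : Subgroup G) ≤
        Subgroup.centralizer (((g • P : Sylow p G) : Subgroup G) : Set G) := by
  have hab' : IsMulCommutative ↥((g • P : Sylow p G) : Subgroup G) :=
    ⟨⟨fun a b => Subtype.ext (commute_of_pSubgroup hab (g • P).isPGroup' a.2 b.2).eq⟩⟩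
  have hc : Nat.card ↥((g • P : Sylow p G) : Subgroup G) = Nat.card ↥(P : Subgroup G) := by
    rw [Sylow.card_eq_multiplicity, Sylow.card_eq_multiplicity]
  have hnel' : ¬ (Cfsg.IsElementaryAbelian p ((g • P : Sylow p G) : Subgroup G) ∧
      p < Nat.card ↥((g • P : Sylow p G) : Subgroup G)) := by
    rintro ⟨⟨-, h⟩, hlt⟩
    refine hnel ⟨⟨hab, fun a ha => ?_⟩, hc ▸ hlt⟩
    have h2 := h (g * a * g⁻¹) ((mem_smul_iff' P g _).2 (by
      rwa [show g⁻¹ * (g * a * g⁻¹) * g = a by simp [mul_assoc]]))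
    rw [conj_pow] at h2
    simpa [mul_inv_eq_iff_eq_mul] using h2
  have hne' : ((g • P : Sylow p G) : Subgroup G) ≠ ⊥ := by
    intro h
    apply hPne
    rw [← Subgroup.card_eq_one, ← hc, h, Subgroup.card_bot]
  obtain ⟨A, hA, hPA⟩ := exists_le_member hZ 𝓐 h𝓐 hab' hnel'
  rw [centralizer_eq_of_le hZ 𝓐 h𝓐 hab' hne' hA hPA]
  exact ⟨hA, hPA⟩

/-- The main dichotomy: centralizer in the cover, normalizer maximal and unique over it, TI property. -/
theorem main {P : Sylow p G} (hab : IsMulCommutative ↥(P : Subgroup G))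
    (hnel : ¬ (Cfsg.IsElementaryAbelian p (P : Subgroup G) ∧ p < Nat.card ↥(P : Subgroup G)))
    (hnn : ¬ (P : Subgroup G).Normal) :
    Subgroup.centralizer ((P : Subgroup G) : Set G) ∈ 𝓐 ∧
      IsCoatom (Subgroup.normalizer ((P : Subgroup G) : Set G)) ∧
      (∀ M : Subgroup G, M ≠ ⊤ → Subgroup.centralizer ((P : Subgroup G) : Set G) ≤ M →
        M ≤ Subgroup.normalizer ((P : Subgroup G) : Set G)) ∧
      (∀ g : G, g ∉ Subgroup.normalizer ((P : Subgroup G) : Set G) →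
        ¬ p ∣ Nat.card ↥(Subgroup.normalizer ((P : Subgroup G) : Set G) ⊓
          (Subgroup.normalizer ((P : Subgroup G) : Set G)).map (MulAut.conj g).toMonoidHom)) := by
  have hPne : (P : Subgroup G) ≠ ⊥ := fun h => hnn (h ▸ inferInstance)
  obtain ⟨hA, hPA⟩ : Subgroup.centralizer ((P : Subgroup G) : Set G) ∈ 𝓐 ∧
      (P : Subgroup G) ≤ Subgroup.centralizer ((P : Subgroup G) : Set G) := by
    have h := conj_member hZ 𝓐 h𝓐 hab hnel hPne 1
    rwa [one_smul] at h
  have hNne : Subgroup.normalizer ((P : Subgroup G) : Set G) ≠ ⊤ := fun h =>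
    hnn (Subgroup.normalizer_eq_top_iff.1 h)
  -- a conjugate whose member is that of `P` gives an element of the normalizer
  have hsame : ∀ g : G, Subgroup.centralizer (((g • P : Sylow p G) : Subgroup G) : Set G) =
      Subgroup.centralizer ((P : Subgroup G) : Set G) →
      g ∈ Subgroup.normalizer ((P : Subgroup G) : Set G) := by
    intro g hg
    refine Sylow.smul_eq_iff_mem_normalizer.1 (Sylow.ext ?_)
    symm
    refine (g • P).is_maximal' P.isPGroup' ?_ |>.trans rfl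
    intro x hx
    obtain ⟨k, hk⟩ := pow_card_eq_one (g • P) hx
    refine mem_sylow_of_normalizer P (Subgroup.centralizer_le_normalizer _ ?_) hk
    exact hg ▸ (conj_member hZ 𝓐 h𝓐 hab hnel hPne g).2 hx
  have huniq : ∀ M : Subgroup G, M ≠ ⊤ → Subgroup.centralizer ((P : Subgroup G) : Set G) ≤ M →
      M ≤ Subgroup.normalizer ((P : Subgroup G) : Set G) := by
    intro M hM hCM g hg
    apply hsame g
    refine eq_of_le_proper 𝓐 h𝓐.1 h𝓐.2.1 hM (conj_member hZ 𝓐 h𝓐 hab hnel hPne g).1 hA ?_ hCM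
    intro y hy
    have h1 : g⁻¹ * y * g ∈ Subgroup.centralizer ((P : Subgroup G) : Set G) := by
      rw [Subgroup.mem_centralizer_iff] at hy ⊢
      intro x hx
      have h2 := hy (g * x * g⁻¹) ((mem_smul_iff' P g _).2 (by
        rwa [show g⁻¹ * (g * x * g⁻¹) * g = x by simp [mul_assoc]]))
      have h3 := congrArg (fun t => g⁻¹ * t * g) h2
      simpa [mul_assoc] using h3
    simpa [mul_assoc] using M.mul_mem (M.mul_mem hg (hCM h1)) (M.inv_mem hg)
  refine ⟨hA, ⟨hNne, fun M hM => ?_⟩, huniq, ?_⟩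
  · by_contra hMne
    exact not_le_of_gt hM (huniq M hMne ((Subgroup.centralizer_le_normalizer _).trans hM.le))
  · intro g hg hdvd
    apply hg
    obtain ⟨x, hx⟩ := exists_prime_orderOf_dvd_card' p hdvd
    have hxp : (x : G) ^ p ^ 1 = 1 := by
      have h1 := pow_orderOf_eq_one x
      rw [hx] at h1
      rw [pow_one]
      exact congrArg Subtype.val h1
    have hx1 : (x : G) ≠ 1 := by
      intro h
      rw [← Subgroup.orderOf_coe, h, orderOf_one] at hx
      exact (Fact.out : p.Prime).ne_one hx.symm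
    obtain ⟨hxN, hxN'⟩ := x.2
    obtain ⟨y, hy, hyx⟩ := Subgroup.mem_map.1 hxN'
    have hyx' : g * y * g⁻¹ = (x : G) := hyx
    have hyp : y ^ p ^ 1 = 1 := by
      rw [← hyx', conj_pow] at hxp
      simpa [mul_inv_eq_iff_eq_mul] using hxp
    have hyP := mem_sylow_of_normalizer P hy hyp
    have hxg : (x : G) ∈ ((g • P : Sylow p G) : Subgroup G) := by
      rw [mem_smul_iff', ← hyx']
      simpa [mul_assoc] using hyP
    apply hsame g
    exact eq_of_mem hZ 𝓐 h𝓐 hab (conj_member hZ 𝓐 h𝓐 hab hnel hPne g).1 hA hx1 hxp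
      ((conj_member hZ 𝓐 h𝓐 hab hnel hPne g).2 hxg) (hPA (mem_sylow_of_normalizer P hxN hxp))

end Cfsg.Agent.NilCover
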