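import Cfsg.Agent.Lib.Cover.Nilpotent
import Mathlib.NumberTheory.Bertrand

/-!
# Symmetric and alternating groups have no nilpotent minimal cover

* `no_cover`: the criterion.
* `no_cover_of_embedding`: groups between `Aₙ` and `Sₙ`, `n ≥ 6`.
-/

set_option autoImplicit false

open Subgroup Equiv

namespace Cfsg.Agent.NilCover

universe u

/-- An element of prime order with a Sylow subgroup, whose centralizer lies in a proper subgroup not normalizing
it, excludes nilpotent minimal covers. -/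
theorem no_cover {G : Type u} [Group G] [Finite G] (hZ : center G = ⊥) {q : ℕ} (hq : q.Prime) {σ : G}
    (hσ : orderOf σ = q) (hsq : ¬ q ^ 2 ∣ Nat.card G) {M : Subgroup G} (hM : M ≠ ⊤)
    (hC : ∀ g : G, g * σ = σ * g → g ∈ M) {τ : G} (hτM : τ ∈ M) (hτ : τ * σ * τ⁻¹ ∉ zpowers σ) :
    ¬ ∃ 𝓐 : Finset (Subgroup G), ((∀ A ∈ 𝓐, A ≠ ⊤) ∧ (∀ g : G, ∃ A ∈ 𝓐, g ∈ A)) ∧
      (∀ 𝓑 : Finset (Subgroup G), (∀ A ∈ 𝓑, A ≠ ⊤) ∧ (∀ g : G, ∃ A ∈ 𝓑, g ∈ A) → 𝓐.card ≤ 𝓑.card) ∧
      (∀ A ∈ 𝓐, Group.IsNilpotent ↥A) := by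
  rintro ⟨𝓐, h𝓐⟩
  have := Fact.mk hq
  have hp : IsPGroup q (zpowers σ) := IsPGroup.of_card (n := 1) (by rw [Nat.card_zpowers, hσ, pow_one])
  have hidx : ¬ q ∣ (zpowers σ).index := fun hd => hsq (by
    rw [← (zpowers σ).card_mul_index, Nat.card_zpowers, hσ, pow_two]
    exact Nat.mul_dvd_mul_left q hd)
  set P : Sylow q G := hp.toSylow hidx
  have hPc : (P : Subgroup G) = zpowers σ := rfl
  have hab : IsMulCommutative ↥(P : Subgroup G) := by
    rw [hPc]; exact IsCyclic.isMulCommutative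
  have hnel : ¬ (Cfsg.IsElementaryAbelian q (P : Subgroup G) ∧ q < Nat.card ↥(P : Subgroup G)) := fun h => by
    have := h.2
    rw [hPc, Nat.card_zpowers, hσ] at this
    exact lt_irrefl q this
  have hnn : ¬ (P : Subgroup G).Normal := fun h => hτ (h.conj_mem σ (mem_zpowers σ) τ)
  obtain ⟨-, -, huniq, -⟩ := main hZ 𝓐 h𝓐 hab hnel hnn
  have h1 := huniq M hM (fun g hg => hC g (mem_centralizer_iff.1 hg σ (mem_zpowers σ)).symm) hτM
  exact hτ ((mem_normalizer_iff.1 h1 σ).1 (mem_zpowers σ))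

variable {n : ℕ}

theorem threeCycle_sign {a b c : Fin n} (hab : a ≠ b) (hac : a ≠ c) (hbc : b ≠ c) :
    Perm.sign (Equiv.swap a c * Equiv.swap a b) = 1 := by
  rw [map_mul, Perm.sign_swap hac, Perm.sign_swap hab]; rfl

/-- A group between `Aₙ` and `Sₙ` has trivial center, `n ≥ 4`. -/
theorem center_eq_bot_of_embedding (hn : 4 ≤ n) {G : Type u} [Group G] (f : G →* Perm (Fin n))
    (hf : Function.Injective f) (hA : ∀ π : Perm (Fin n), Perm.sign π = 1 → ∃ g, f g = π) : center G = ⊥ := by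
  refine eq_bot_iff.2 fun g hg => mem_bot.2 (hf ?_)
  rw [map_one]
  ext a
  simp only [Perm.coe_one, id]
  by_contra hne
  have hba : f g a ≠ a := fun e => hne (congrArg Fin.val e)
  set b := f g a
  obtain ⟨c, hca, hcb⟩ : ∃ c, c ≠ a ∧ c ≠ b := by
    obtain ⟨c, hc⟩ : ∃ c, c ∉ ({a, b} : Finset (Fin n)) := by
      by_contra hno
      push Not at hno
      have := Finset.card_le_card (fun x (_ : x ∈ Finset.univ) => hno x)
      simp [Finset.card_pair hba.symm] at this
      omega
    exact ⟨c, by simpa [not_or] using hc⟩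
  obtain ⟨d, hda, hdb, hdc⟩ : ∃ d, d ≠ a ∧ d ≠ b ∧ d ≠ c := by
    obtain ⟨d, hd⟩ : ∃ d, d ∉ ({a, b, c} : Finset (Fin n)) := by
      by_contra hno
      push Not at hno
      have := (Finset.card_le_card (fun x (_ : x ∈ Finset.univ) => hno x)).trans Finset.card_le_three
      simp at this
      omega
    exact ⟨d, by simpa [not_or] using hd⟩
  obtain ⟨t, ht⟩ := hA _ (threeCycle_sign (a := b) (b := c) (c := d) hcb.symm hdb.symm hdc.symm)
  have h1 : f g (f t a) = f t (f g a) := by
    have := congrArg f (mem_center_iff.1 hg t)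
    rw [map_mul, map_mul] at this
    exact (congrFun (congrArg DFunLike.coe this) a).symm
  have h2 : f t a = a := by
    rw [ht]; simp [Equiv.swap_apply_of_ne_of_ne hba.symm hca.symm, Equiv.swap_apply_of_ne_of_ne hba.symm hda.symm]
  have h3 : f t b = c := by
    rw [ht]; simp [Equiv.swap_apply_of_ne_of_ne hcb hdc.symm]
  rw [h2] at h1
  exact hcb (h3.symm.trans h1.symm)

/-- Groups between `Aₙ` and `Sₙ`, `n ≥ 6`. -/
theorem no_cover_of_embedding (hn : 6 ≤ n) {G : Type u} [Group G] [Finite G] (f : G →* Perm (Fin n))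
    (hf : Function.Injective f) (hA : ∀ π : Perm (Fin n), Perm.sign π = 1 → ∃ g, f g = π) :
    ¬ ∃ 𝓐 : Finset (Subgroup G), ((∀ A ∈ 𝓐, A ≠ ⊤) ∧ (∀ g : G, ∃ A ∈ 𝓐, g ∈ A)) ∧
      (∀ 𝓑 : Finset (Subgroup G), (∀ A ∈ 𝓑, A ≠ ⊤) ∧ (∀ g : G, ∃ A ∈ 𝓑, g ∈ A) → 𝓐.card ≤ 𝓑.card) ∧
      (∀ A ∈ 𝓐, Group.IsNilpotent ↥A) := by
  classical
  obtain ⟨q, hq, hqn, hnq⟩ : ∃ q, q.Prime ∧ q < n ∧ n < 2 * q := by
    rcases Nat.even_or_odd n with ⟨m, hm⟩ | ⟨m, hm⟩
    · obtain ⟨q, hq, h1, h2⟩ := Nat.exists_prime_lt_and_le_two_mul m (by omega)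
      refine ⟨q, hq, lt_of_le_of_ne (by omega) fun e => ?_, by omega⟩
      rcases hq.eq_two_or_odd with h | h <;> omega
    · obtain ⟨q, hq, h1, h2⟩ := Nat.exists_prime_lt_and_le_two_mul m (by omega)
      exact ⟨q, hq, by omega, by omega⟩
  have hq5 : 5 ≤ q := by
    rcases hq.eq_two_or_odd with h | h <;> omega
  have := Fact.mk hq
  -- the cycle
  set l : List (Fin n) := List.ofFn (fun i : Fin q => (⟨i.1, by omega⟩ : Fin n)) with hl
  have hnd : l.Nodup := List.nodup_ofFn.2 fun i j h => Fin.ext (congrArg Fin.val h :)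
  have hlen : l.length = q := by simp [hl]
  have hcyc : Perm.IsCycle l.formPerm := List.isCycle_formPerm hnd (by omega)
  have hsupp : l.formPerm.support = l.toFinset := List.support_formPerm_of_nodup l hnd (fun x hx => by
    have := congrArg List.length hx; rw [hlen, List.length_singleton] at this; omega)
  have hord : orderOf l.formPerm = q := by
    rw [hcyc.orderOf, hsupp, List.toFinset_card_of_nodup hnd, hlen]
  have hsign : Perm.sign l.formPerm = 1 := by
    rw [hcyc.sign, hsupp, List.toFinset_card_of_nodup hnd, hlen]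
    have hodd : Odd q := hq.odd_of_ne_two (by omega)
    rw [hodd.neg_one_pow]; simp
  obtain ⟨σ, hσ⟩ := hA _ hsign
  have hσo : orderOf σ = q := by rw [← orderOf_injective f hf σ, hσ, hord]
  have hmem : ∀ i : Fin n, i ∈ l.formPerm.support ↔ i.1 < q := by
    intro i
    rw [hsupp, List.mem_toFinset, hl, List.mem_ofFn]
    exact ⟨fun ⟨j, hj⟩ => by rw [← hj]; exact j.2, fun h => ⟨⟨i.1, h⟩, rfl⟩⟩
  have hval : ∀ (i : ℕ) (h : i + 1 < q), l.formPerm ⟨i, by omega⟩ = ⟨i + 1, by omega⟩ := by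
    intro i h
    have h1 := List.formPerm_apply_lt_getElem l hnd i (by omega)
    simpa [hl] using h1
  have hsq : ¬ q ^ 2 ∣ Nat.card G := by
    intro hd
    have h1 : Nat.card G ∣ n.factorial := by
      have h0 := (Nat.card_congr (MonoidHom.ofInjective hf).toEquiv).dvd.trans (card_subgroup_dvd_card f.range)
      rwa [Nat.card_eq_fintype_card (α := Perm (Fin n)), Fintype.card_perm, Fintype.card_fin] at h0
    have h2 := (padicValNat_dvd_iff_le (p := q) (Nat.factorial_ne_zero n)).1 (hd.trans h1)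
    have h3 : padicValNat q n.factorial = n / q := by
      rw [padicValNat_factorial (b := 2) (by
        calc Nat.log q n < 2 := Nat.log_lt_of_lt_pow (by omega) (by nlinarith))]
      simp
    rw [h3] at h2
    have : n / q < 2 := (Nat.div_lt_iff_lt_mul hq.pos).2 (by omega)
    omega
  -- the subgroup
  let M : Subgroup G :=
    { carrier := {g | ∀ i : Fin n, (f g i).1 < q ↔ i.1 < q}
      one_mem' := fun i => by simp
      mul_mem' := fun {a b} ha hb i => by rw [map_mul, Perm.mul_apply, ha, hb]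
      inv_mem' := fun {a} ha i => by
        have := ha ((f a)⁻¹ i)
        rw [show f a ((f a)⁻¹ i) = i from (f a).apply_symm_apply i] at this
        rw [map_inv]
        exact this.symm }
  -- the three-cycle on the first three points
  obtain ⟨τ, hτ⟩ := hA _ (threeCycle_sign (a := (⟨0, by omega⟩ : Fin n)) (b := ⟨1, by omega⟩) (c := ⟨2, by omega⟩)
    (by simp) (by simp) (by simp))
  refine no_cover (center_eq_bot_of_embedding (by omega) f hf hA) hq hσo hsq (M := M) ?_ ?_ (τ := τ) ?_ ?_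
  · intro htop
    obtain ⟨t, ht⟩ := hA _ (threeCycle_sign (a := (⟨0, by omega⟩ : Fin n)) (b := ⟨1, by omega⟩) (c := ⟨q, hqn⟩)
      (by simp) (by simp [Fin.ext_iff]; omega) (by simp [Fin.ext_iff]; omega))
    have h1 := (htop ▸ mem_top t : t ∈ M) ⟨1, by omega⟩
    rw [ht, Perm.mul_apply, Equiv.swap_apply_right, Equiv.swap_apply_left] at h1
    simp at h1
    omega
  · intro g hg i
    have h1 : f g * l.formPerm = l.formPerm * f g := by rw [← hσ, ← map_mul, ← map_mul, hg]
    have h2 : l.formPerm (f g i) = f g (l.formPerm i) := (congrFun (congrArg DFunLike.coe h1) i).symm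
    rw [← hmem, ← hmem, Perm.mem_support, Perm.mem_support, h2]
    exact (f g).injective.ne_iff
  · intro i
    rw [hτ, Perm.mul_apply]
    by_cases h0 : i = ⟨0, by omega⟩
    · subst h0; simp [Equiv.swap_apply_def]; omega
    by_cases h1 : i = ⟨1, by omega⟩
    · subst h1; simp [Equiv.swap_apply_def]; omega
    by_cases h2 : i = ⟨2, by omega⟩
    · subst h2; simp [Equiv.swap_apply_def]; omega
    rw [Equiv.swap_apply_of_ne_of_ne h0 h1, Equiv.swap_apply_of_ne_of_ne h0 h2]
  · intro hmemz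
    obtain ⟨k, hk⟩ := mem_zpowers_iff.1 hmemz
    have h1 : f τ * l.formPerm * (f τ)⁻¹ = l.formPerm ^ k := by
      rw [← hσ, ← map_zpow, hk, map_mul, map_mul, map_inv]
    have hτ3 : f τ ⟨3, by omega⟩ = ⟨3, by omega⟩ := by rw [hτ]; simp [Equiv.swap_apply_def]
    have hτ4 : f τ ⟨4, by omega⟩ = ⟨4, by omega⟩ := by rw [hτ]; simp [Equiv.swap_apply_def]
    have h2 : (l.formPerm ^ k) ⟨3, by omega⟩ = l.formPerm ⟨3, by omega⟩ := by
      rw [← h1, Perm.mul_apply, Perm.mul_apply, Perm.inv_eq_iff_eq.2 hτ3.symm, hval 3 (by omega), hτ4]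
    have h3 : l.formPerm ^ k = l.formPerm := by
      have h4 : l.formPerm ^ (k - 1) = 1 := by
        by_contra hne
        have hgen : orderOf (l.formPerm ^ (k - 1)) = q := by
          have hd : orderOf (l.formPerm ^ (k - 1)) ∣ q := hord ▸ orderOf_dvd_of_mem_zpowers (zpow_mem (mem_zpowers _) _)
          exact ((Nat.dvd_prime hq).1 hd).resolve_left (fun e => hne (orderOf_eq_one_iff.1 e))
        have heq : zpowers (l.formPerm ^ (k - 1)) = zpowers l.formPerm :=
          eq_of_le_of_card_ge (zpowers_le.2 (zpow_mem (mem_zpowers _) _))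
            (by rw [Nat.card_zpowers, Nat.card_zpowers, hgen, hord])
        obtain ⟨j, hj⟩ := mem_zpowers_iff.1 (heq ▸ mem_zpowers l.formPerm)
        have hfix : (l.formPerm ^ (k - 1)) ⟨3, by omega⟩ = (⟨3, by omega⟩ : Fin n) := by
          rw [show k - 1 = -1 + k by ring, zpow_add, Perm.mul_apply, h2, zpow_neg_one]
          exact l.formPerm.symm_apply_apply _
        have h5 : l.formPerm ⟨3, by omega⟩ = (⟨3, by omega⟩ : Fin n) := by
          rw [← hj]; exact Perm.zpow_apply_eq_self_of_apply_eq_self hfix j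
        rw [hval 3 (by omega)] at h5
        simp at h5
      calc l.formPerm ^ k = l.formPerm ^ (k - 1) * l.formPerm := by rw [← zpow_add_one]; ring_nf
        _ = l.formPerm := by rw [h4, one_mul]
    rw [h3, mul_inv_eq_iff_eq_mul] at h1
    have h6 : ∀ i : ℕ, ∀ h : i + 3 < q, f τ ⟨i + 3, by omega⟩ = (⟨i + 3, by omega⟩ : Fin n) := by
      intro i
      induction i with
      | zero => intro _; exact hτ3
      | succ i ihh =>
        intro h
        have := congrFun (congrArg DFunLike.coe h1) ⟨i + 3, by omega⟩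
        simp only [Perm.mul_apply] at this
        rw [hval (i + 3) (by omega), ihh (by omega), hval (i + 3) (by omega)] at this
        simpa [show i + 1 + 3 = i + 3 + 1 by omega] using this
    have hlast : l.formPerm ⟨q - 1, by omega⟩ = (⟨0, by omega⟩ : Fin n) := by
      have := List.formPerm_apply_getElem l hnd (q - 1) (by omega)
      simp [hl, Nat.sub_add_cancel (show 1 ≤ q by omega)] at this
      exact this
    have := congrFun (congrArg DFunLike.coe h1) ⟨q - 1, by omega⟩
    simp only [Perm.mul_apply] at this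
    rw [hlast] at this
    have h7 := h6 (q - 4) (by omega)
    simp only [show q - 4 + 3 = q - 1 by omega] at h7
    rw [h7, hlast, hτ] at this
    simp [Equiv.swap_apply_def] at this

end Cfsg.Agent.NilCover
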